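import Groth.Agent.QfsCmp.Reduce
import Groth.Agent.FppfCmp.AcycExt
import Groth.Agent.FppfCmp.Exact

/-!
# Injective resolutions of sheaves from the small etale site on the qfs site
-/

set_option autoImplicit false
set_option backward.isDefEq.respectTransparency false
set_option backward.isDefEq.respectTransparency.types false
set_option maxHeartbeats 800000
universe u

namespace Groth.Agent.QfsCmp

open CategoryTheory Limits AlgebraicGeometry Opposite Groth.Agent.BigSiteLib Groth.Agent.FppfCmp

variable {S : Scheme.{u}}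

/-- An injective resolution as resolution data. -/
noncomputable def resOf (F : EtCoh.Ab S) (I : InjectiveResolution (piQfs F)) : ResData S where
  F := F
  K n := I.cocomplex.X n
  d n := I.cocomplex.d n (n + 1)
  d_d n := I.cocomplex.d_comp_d _ _ _
  inj n := I.injective n
  ι := (I.ι.f 0).hom
  ι_injective U := sect_injective_of_mono (I.ι.f 0) U
  ι_ker U x := by
    refine ⟨fun hx => exists_of_exact_mono (S := ShortComplex.mk _ _ I.ι_f_zero_comp_complex_d) I.exact₀ U x hx, ?_⟩
    rintro ⟨y, rfl⟩
    exact DFunLike.congr_fun (congrArg (fun t => (t.hom.app (op U)).hom) I.ι_f_zero_comp_complex_d) y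

/-- Cocycles of an injective resolution of a sheaf from the small etale site are etale locally
coboundaries. -/
theorem imageSieve_mem_Je (F : EtCoh.Ab S) (I : InjectiveResolution (piQfs F)) (m : ℕ) (U : Over S)
    (c : (I.cocomplex.X (m + 1)).obj.obj (op U)) (hc : appS (I.cocomplex.d (m + 1) (m + 2)) U c = 0) :
    Presheaf.imageSieve (I.cocomplex.d m (m + 1)).hom (U := U) c ∈ Je S U :=
  vanish (m + 1) S (resOf F I) (fun k _ U' c' hc' =>
    imageSieve_mem_of_exact (I.exact_succ k) U' c' hc') m le_rfl U c hc


theorem piQfsIso_hom (F : EtCoh.Ab S) : (piQfsIso F).hom =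
    ((BigSite.piEtAdj qfsPre.{u} S).homEquiv F (piQfs F)).symm
      ⟨((BigSite.piEtAdj Scheme.etalePrecoverage S).unit.app F).hom⟩ :=
  rfl

/-- The unit of the comparison of the small etale with the qfs site is an isomorphism. -/
theorem isIso_aAdj_unit (F : EtCoh.Ab S) : IsIso ((BigSite.piEtAdj qfsPre.{u} S).unit.app F) := by
  let v : F ⟶ (BigSite.resEt qfsPre.{u} S).obj (piQfs F) := ⟨((BigSite.piEtAdj Scheme.etalePrecoverage S).unit.app F).hom⟩
  have hv : (BigSite.piEtAdj qfsPre.{u} S).unit.app F ≫ (BigSite.resEt qfsPre.{u} S).map (piQfsIso F).hom = v := by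
    refine ((BigSite.piEtAdj qfsPre.{u} S).homEquiv_unit F (piQfs F) (piQfsIso F).hom).symm.trans ?_
    rw [piQfsIso_hom]
    exact Equiv.apply_symm_apply _ v
  haveI := isIso_piEtAdj_unit (S := S) F
  haveI : IsIso v := by
    haveI : IsIso ((sheafToPresheaf _ _).map v) :=
      inferInstanceAs (IsIso ((sheafToPresheaf _ _).map ((BigSite.piEtAdj Scheme.etalePrecoverage S).unit.app F)))
    exact isIso_of_reflects_iso v (sheafToPresheaf _ _)
  rw [show (BigSite.piEtAdj qfsPre.{u} S).unit.app F = v ≫ (BigSite.resEt qfsPre.{u} S).map (piQfsIso F).inv by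
    rw [← hv, Category.assoc, ← Functor.map_comp, Iso.hom_inv_id, CategoryTheory.Functor.map_id]
    exact (Category.comp_id _).symm]
  infer_instance

/-- The restriction to the small etale site of an injective resolution is exact in positive degrees. -/
theorem exactAt_aPush (F : EtCoh.Ab S) (I : InjectiveResolution (piQfs F)) (n : ℕ) :
    (((BigSite.resEt qfsPre.{u} S).mapHomologicalComplex (ComplexShape.up ℕ)).obj I.cocomplex).ExactAt (n + 1) := by
  rw [HomologicalComplex.exactAt_iff' _ n (n + 1) (n + 2) (by simp) (by simp)]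
  refine exact_of_imageSieve_mem (J := S.smallEtaleTopology)
    ((((BigSite.resEt qfsPre.{u} S).mapHomologicalComplex (ComplexShape.up ℕ)).obj I.cocomplex).sc' n (n + 1) (n + 2))
    fun U c hc => ?_
  exact (EtFppf.a S).cover_lift S.smallEtaleTopology (Je S)
      (imageSieve_mem_Je F I n ((EtFppf.a S).obj U) c hc)

end Groth.Agent.QfsCmp
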