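import Groth.Agent.QfsCmp.Apply
import Groth.Agent.BigSiteLib.Basic

/-!
# Etale cohomology is the cohomology of the qfs site
-/

set_option autoImplicit false
set_option backward.isDefEq.respectTransparency false
set_option backward.isDefEq.respectTransparency.types false
set_option maxHeartbeats 800000
universe u

namespace Groth.Agent.QfsCmp

open CategoryTheory Limits AlgebraicGeometry Opposite

/-- `H^q(X_et, F) = H^q(X, π⁻¹ F)`. -/
theorem nonempty_H_equiv (X : Scheme.{u}) (F : EtCoh.Ab X) (q : ℕ) :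
    Nonempty (EtCoh.H X F q ≃+ BigSite.H qfsPre.{u} X ((BigSite.piEtPull qfsPre.{u} X).obj F) q) := by
  haveI : (BigSite.piEtPull qfsPre.{u} X).PreservesMonomorphisms :=
    Groth.Agent.BigSiteLib.preservesMonomorphisms_piEtPull qfsPre.{u} X
  haveI : PreservesFiniteLimits (EtFppf.a X) := inferInstanceAs (PreservesFiniteLimits (Scheme.Etale.forget X))
  haveI := isIso_aAdj_unit F
  let α := piQfsIso F
  let I := InjectiveResolution.of (piQfs F)
  let T' : IsTerminal (Over.mk (𝟙 X) : Over X) := Over.mkIdTerminal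
  let i : BigSite.resEt qfsPre.{u} X ⋙ (sheafSections X.smallEtaleTopology AddCommGrpCat.{u + 1}).obj (op (EtCoh.top X)) ≅
      (sheafSections (QuotSh.J qfsPre.{u} X) AddCommGrpCat.{u + 1}).obj (op (Over.mk (𝟙 X))) :=
    NatIso.ofComponents (fun G => G.obj.mapIso (IsTerminal.uniqueUpToIso
      (IsTerminal.isTerminalObj (EtFppf.a X) _ (EtCore.topIsTerminal X)) T').symm.op) (fun φ => (φ.hom.naturality _).symm)
  let c := Adjunction.leftAdjointUniq
    (((constantSheafAdj X.smallEtaleTopology AddCommGrpCat.{u + 1} (EtCore.topIsTerminal X)).comp (BigSite.piEtAdj qfsPre.{u} X)).ofNatIsoRight i)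
    (constantSheafAdj (QuotSh.J qfsPre.{u} X) AddCommGrpCat.{u + 1} T')
  obtain ⟨e⟩ := Groth.Agent.FppfCmp.nonempty_ext_equiv_of_resolution (BigSite.piEtAdj qfsPre.{u} X) I
    (exactAt_aPush F I) (c.app (AddCommGrpCat.of (ULift ℤ))) q
  exact ⟨(((Abelian.extFunctorObj _ q).mapIso (asIso ((BigSite.piEtAdj qfsPre.{u} X).unit.app F) ≪≫
      (BigSite.resEt qfsPre.{u} X).mapIso α)).addCommGroupIsoToAddEquiv).trans
    (e.trans ((Abelian.extFunctorObj _ q).mapIso α.symm).addCommGroupIsoToAddEquiv)⟩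

end Groth.Agent.QfsCmp
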