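import Groth.Agent.QfsCmp.Data

/-!
# The quotient of the direct image of the restriction along a finite flat covering
-/

set_option autoImplicit false
set_option backward.isDefEq.respectTransparency false
set_option backward.isDefEq.respectTransparency.types false
set_option maxHeartbeats 1600000
universe u

namespace Groth.Agent.QfsCmp

open CategoryTheory Limits AlgebraicGeometry Opposite Groth.Agent.BigSiteLib

variable {S V : Scheme.{u}} (h : V ⟶ S)

/-- `h_* h^*` on qfs sheaves. -/
noncomputable abbrev EF : BigSite.Ab qfsPre.{u} S ⥤ BigSite.Ab qfsPre.{u} S :=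
  BigSite.pullBig qfsPre.{u} h AddCommGrpCat.{u + 1} ⋙
    BigSite.pushBig qfsPre.{u} h AddCommGrpCat.{u + 1}

/-- The covering of an object by its base change. -/
noncomputable abbrev cov (U : Over S) : (Over.map h).obj ((Over.pullback h).obj U) ⟶ U :=
  (Over.mapPullbackAdj h).counit.app U

/-- The unit. -/
noncomputable abbrev etaF (G : BigSite.Ab qfsPre.{u} S) : G ⟶ (EF h).obj G :=
  (BigSite.bigAdj qfsPre.{u} h AddCommGrpCat.{u + 1}).unit.app G

theorem etaF_app (G : BigSite.Ab qfsPre.{u} S) (U : Over S) (x : G.obj.obj (op U)) :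
    appS (etaF h G) U x = G.obj.map (cov h U).op x := by
  simp [appS, etaF, BigSite.bigAdj, Adjunction.sheafPushforwardContinuous]
  rfl

variable [IsFinite h] [Surjective h]

theorem cov_mem (U : Over S) :
    Sieve.generate (Presieve.singleton (cov h U)) ∈ Jf S U := by
  show Sieve.overEquiv U _ ∈ qfsPre.{u}.toGrothendieck U.left
  haveI : IsFinite (cov h U).left := MorphismProperty.pullback_fst U.hom h inferInstance
  haveI : Surjective (cov h U).left := MorphismProperty.pullback_fst U.hom h inferInstance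
  refine GrothendieckTopology.superset_covering _ ?_
    (Precoverage.generate_mem_toGrothendieck (J := qfsPre.{u}) (R := Presieve.singleton (cov h U).left)
      (Or.inr ⟨_, (cov h U).left, inferInstance, inferInstance, rfl⟩))
  rw [Sieve.generate_le_iff]
  rintro Z _ ⟨⟩
  refine (Sieve.overEquiv_iff _ _).2 ⟨_,
    Over.homMk (U := Over.mk ((cov h U).left ≫ U.hom)) (V := (Over.map h).obj ((Over.pullback h).obj U)) (𝟙 _)
      ((Category.id_comp _).trans (Over.w (cov h U)).symm), cov h U, ⟨⟩, Over.OverMorphism.ext (Category.id_comp _)⟩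

theorem etaF_injective (G : BigSite.Ab qfsPre.{u} S) (U : Over S) : Function.Injective (appS (etaF h G) U) := by
  intro x y e
  rw [etaF_app, etaF_app] at e
  refine ((types_isSheaf G) _ (cov_mem h U)).isSeparatedFor.ext ?_
  rintro W f ⟨Z, a, b, ⟨⟩, rfl⟩
  show G.obj.map (a ≫ cov h U).op x = G.obj.map (a ≫ cov h U).op y
  rw [← map_map_apply, e, map_map_apply]

instance mono_etaF (G : BigSite.Ab qfsPre.{u} S) : Mono (etaF h G) := by
  haveI : ∀ U, Mono ((etaF h G).hom.app U) := fun U => (AddCommGrpCat.mono_iff_injective _).2 (etaF_injective h G U.unop)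
  haveI : Mono (etaF h G).hom := NatTrans.mono_of_mono_app _
  exact (sheafToPresheaf _ _).mono_of_mono_map (inferInstanceAs (Mono (etaF h G).hom))

theorem injective_EF (G : BigSite.Ab qfsPre.{u} S) [Injective G] : Injective ((EF h).obj G) := by
  haveI := injective_pullBig h qfsPre.{u} G
  haveI := preservesFiniteLimits_pullBig qfsPre.{u} h
  exact Injective.injective_of_adjoint (BigSite.bigAdj qfsPre.{u} h AddCommGrpCat.{u + 1}) _

variable (D : ResData S)

/-- The quotient complex. -/
noncomputable abbrev CK (n : ℕ) : BigSite.Ab qfsPre.{u} S := cokernel (etaF h (D.K n))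

/-- The projection to the quotient complex. -/
noncomputable abbrev piC (n : ℕ) : (EF h).obj (D.K n) ⟶ CK h D n := cokernel.π (etaF h (D.K n))

/-- The differential of the quotient complex. -/
noncomputable abbrev dC (n : ℕ) : CK h D n ⟶ CK h D (n + 1) :=
  cokernel.map (etaF h (D.K n)) (etaF h (D.K (n + 1))) (D.d n) ((EF h).map (D.d n))
    ((BigSite.bigAdj qfsPre.{u} h AddCommGrpCat.{u + 1}).unit.naturality (D.d n)).symm

theorem piC_dC (n : ℕ) : piC h D n ≫ dC h D n = (EF h).map (D.d n) ≫ piC h D (n + 1) := cokernel.π_desc _ _ _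

theorem piC_dC_apply (n : ℕ) (U : Over S) (e : ((EF h).obj (D.K n)).obj.obj (op U)) :
    appS (dC h D n) U (appS (piC h D n) U e) = appS (piC h D (n + 1)) U (appS ((EF h).map (D.d n)) U e) :=
  DFunLike.congr_fun (congrArg (fun t => (t.hom.app (op U)).hom) (piC_dC h D n)) e

theorem etaF_naturality (n : ℕ) (U : Over S) (k : (D.K n).obj.obj (op U)) :
    appS ((EF h).map (D.d n)) U (appS (etaF h (D.K n)) U k) = appS (etaF h (D.K (n + 1))) U (appS (D.d n) U k) :=
  (DFunLike.congr_fun (congrArg (fun t => (t.hom.app (op U)).hom)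
    ((BigSite.bigAdj qfsPre.{u} h AddCommGrpCat.{u + 1}).unit.naturality (D.d n))) k).symm

theorem d_d_apply (n : ℕ) (U : Over S) (k : (D.K n).obj.obj (op U)) :
    appS (D.d (n + 1)) U (appS (D.d n) U k) = 0 :=
  DFunLike.congr_fun (congrArg (fun t => (t.hom.app (op U)).hom) (D.d_d n)) k

theorem piC_etaF (n : ℕ) (U : Over S) (k : (D.K n).obj.obj (op U)) :
    appS (piC h D n) U (appS (etaF h (D.K n)) U k) = 0 :=
  DFunLike.congr_fun (congrArg (fun t => (t.hom.app (op U)).hom) (cokernel.condition (etaF h (D.K n)))) k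

theorem exists_split (n : ℕ) : ∃ (s : CK h D n ⟶ (EF h).obj (D.K n)) (r : (EF h).obj (D.K n) ⟶ D.K n),
    piC h D n ≫ s = 𝟙 _ - r ≫ etaF h (D.K n) ∧ s ≫ piC h D n = 𝟙 _ := by
  haveI := D.inj n
  let r := Injective.factorThru (𝟙 (D.K n)) (etaF h (D.K n))
  have hr : etaF h (D.K n) ≫ r = 𝟙 _ := Injective.comp_factorThru _ _
  let s : CK h D n ⟶ (EF h).obj (D.K n) := cokernel.desc _ (𝟙 _ - r ≫ etaF h (D.K n)) (by
    rw [Preadditive.comp_sub, Category.comp_id, ← Category.assoc, hr, Category.id_comp, sub_self])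
  refine ⟨s, r, cokernel.π_desc _ _ _, ?_⟩
  rw [← cancel_epi (piC h D n), ← Category.assoc, cokernel.π_desc, Preadditive.sub_comp, Category.assoc,
    cokernel.condition, comp_zero, sub_zero, Category.id_comp, Category.comp_id]

theorem piC_surjective (n : ℕ) (U : Over S) : Function.Surjective (appS (piC h D n) U) := fun c => by
  obtain ⟨s, r, -, hs⟩ := exists_split h D n
  exact ⟨appS s U c, DFunLike.congr_fun (congrArg (fun t => (t.hom.app (op U)).hom) hs) c⟩

theorem piC_ker (n : ℕ) (U : Over S) (e : ((EF h).obj (D.K n)).obj.obj (op U)) (he : appS (piC h D n) U e = 0) :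
    ∃ k, appS (etaF h (D.K n)) U k = e := by
  obtain ⟨s, r, hs, -⟩ := exists_split h D n
  refine ⟨appS r U e, ?_⟩
  have h1 : appS s U (appS (piC h D n) U e) = e - appS (etaF h (D.K n)) U (appS r U e) :=
    DFunLike.congr_fun (congrArg (fun t => (t.hom.app (op U)).hom) hs) e
  rw [he, map_zero] at h1
  exact (sub_eq_zero.1 h1.symm).symm

theorem injective_CK (n : ℕ) : Injective (CK h D n) := by
  obtain ⟨s, r, -, hs⟩ := exists_split h D n
  haveI := D.inj n
  haveI := injective_EF h (D.K n)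
  refine ⟨fun {X Y} g f _ => ⟨Injective.factorThru (g ≫ s) f ≫ piC h D n, ?_⟩⟩
  rw [← Category.assoc, Injective.comp_factorThru, Category.assoc, hs, Category.comp_id]

theorem dC_dC (n : ℕ) : dC h D n ≫ dC h D (n + 1) = 0 := by
  rw [← cancel_epi (piC h D n), ← Category.assoc, piC_dC, Category.assoc, piC_dC, ← Category.assoc,
    ← Functor.map_comp, D.d_d, comp_zero]
  haveI : (EF h).PreservesZeroMorphisms := inferInstance
  rw [Functor.map_zero, zero_comp]

theorem exists_aug : ∃ (Q₀ : EtCoh.Ab S) (ιC : (piSheaf Q₀).obj ⟶ (CK h D 0).obj),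
    (∀ U : Over S, Function.Injective (ιC.app (op U))) ∧
    (∀ (U : Over S) (x : (CK h D 0).obj.obj (op U)), (∃ y, ιC.app (op U) y = x) → appS (dC h D 0) U x = 0) ∧
    (∀ (U : Over S) (y : (piSheaf Q₀).obj.obj (op U)), ∀ x : U.left, ∃ (W : Over S) (e : W ⟶ U),
      Etale e.left ∧ (∃ w, e.left w = x) ∧ ∃ g : ((EF h).obj (D.K 0)).obj.obj (op W),
        appS ((EF h).map (D.d 0)) W g = 0 ∧
          appS (piC h D 0) W g = (CK h D 0).obj.map e.op (ιC.app (op U) y)) ∧
    (∀ (U : Over S) (g : ((EF h).obj (D.K 0)).obj.obj (op U)), appS ((EF h).map (D.d 0)) U g = 0 →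
      ∃ y, ιC.app (op U) y = appS (piC h D 0) U g) := by
  let θ : (BigSite.pushBig Scheme.etalePrecoverage h AddCommGrpCat.{u + 1}).obj
      ((BigSite.pullBig Scheme.etalePrecoverage h AddCommGrpCat.{u + 1}).obj (piSheaf D.F)) ≅
      piSheaf ((EtCoh.push h).obj ((EtCoh.pull h).obj D.F)) :=
    (BigSite.pushBig Scheme.etalePrecoverage h AddCommGrpCat.{u + 1}).mapIso ((pullPiIso h).app D.F) ≪≫
      (piPushIso h (fun g g' f' c F' => Groth.Agent.S0621.result h g f' g' c F') _).symm
  let F₁ := (EtCoh.push h).obj ((EtCoh.pull h).obj D.F)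
  let η₀ := (BigSite.bigAdj Scheme.etalePrecoverage h AddCommGrpCat.{u + 1}).unit.app (piSheaf D.F)
  let α : piSheaf D.F ⟶ piSheaf F₁ := η₀ ≫ θ.hom
  haveI : IsIso (BigSite.piEtAdj Scheme.etalePrecoverage S).unit := by
    haveI := fun G => isIso_piEtAdj_unit (S := S) G
    exact NatIso.isIso_of_isIso_app _
  let ff := (BigSite.piEtAdj Scheme.etalePrecoverage S).fullyFaithfulLOfIsIsoUnit
  let α₀ : D.F ⟶ F₁ := ff.preimage α
  let Q₀ := cokernel α₀
  let q : piSheaf F₁ ⟶ piSheaf Q₀ := (BigSite.piEtPull Scheme.etalePrecoverage S).map (cokernel.π α₀)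
  let Eι : (piSheaf F₁).obj ⟶ ((EF h).obj (D.K 0)).obj :=
    θ.inv.hom ≫ Functor.whiskerLeft ((Over.pullback h).op ⋙ (Over.map h).op) D.ι
  haveI : ∀ U, IsIso (θ.inv.hom.app U) := fun U =>
    inferInstanceAs (IsIso (((sheafToPresheaf _ _).mapIso θ).inv.app U))
  have hEinj : ∀ U : Over S, Function.Injective (Eι.app (op U)) := fun U =>
    (D.ι_injective ((Over.map h).obj ((Over.pullback h).obj U))).comp
      (ConcreteCategory.bijective_of_isIso (θ.inv.hom.app (op U))).1
  have hEker : ∀ (U : Over S) (g : ((EF h).obj (D.K 0)).obj.obj (op U)),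
      appS ((EF h).map (D.d 0)) U g = 0 ↔ ∃ y, Eι.app (op U) y = g := fun U g => by
    refine (D.ι_ker ((Over.map h).obj ((Over.pullback h).obj U)) g).trans ⟨?_, ?_⟩
    · rintro ⟨y, hy⟩
      obtain ⟨y', rfl⟩ := (ConcreteCategory.bijective_of_isIso (θ.inv.hom.app (op U))).2 y
      exact ⟨y', hy⟩
    · rintro ⟨y, hy⟩
      exact ⟨_, hy⟩
  have hα : ∀ (U : Over S) (y : (piSheaf D.F).obj.obj (op U)),
      Eι.app (op U) (α.hom.app (op U) y) = appS (etaF h (D.K 0)) U (D.ι.app (op U) y) := fun U y => by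
    have e : θ.inv.hom.app (op U) (α.hom.app (op U) y) = η₀.hom.app (op U) y :=
      DFunLike.congr_fun (congrArg (fun t => (t.hom.app (op U)).hom)
        ((Category.assoc η₀ θ.hom θ.inv).trans ((congrArg _ θ.hom_inv_id).trans (Category.comp_id _)))) y
    have e' : η₀.hom.app (op U) y = (piSheaf D.F).obj.map (cov h U).op y := by
      simp [η₀, BigSite.bigAdj, Adjunction.sheafPushforwardContinuous]
      rfl
    rw [etaF_app]
    refine Eq.trans ?_ (NatTrans.naturality_apply D.ι (cov h U).op y)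
    exact congrArg (D.ι.app _) (e.trans e')
  have hαinj : ∀ U : Over S, Function.Injective (α.hom.app (op U)) := fun U a b hab => by
    have := congrArg (Eι.app (op U)) hab
    rw [hα, hα] at this
    exact D.ι_injective U (etaF_injective h (D.K 0) U this)
  haveI := preservesFiniteLimits_piEtPull Scheme.etalePrecoverage S
  haveI : PreservesColimitsOfSize.{0, 0} (BigSite.piEtPull Scheme.etalePrecoverage S) :=
    (BigSite.piEtAdj Scheme.etalePrecoverage S).leftAdjoint_preservesColimits
  haveI : PreservesFiniteColimits (BigSite.piEtPull Scheme.etalePrecoverage S) :=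
    PreservesColimitsOfSize.preservesFiniteColimits _
  have hαe : (BigSite.piEtPull Scheme.etalePrecoverage S).map α₀ = α := ff.map_preimage α
  let Sq := ShortComplex.mk α q (by
    rw [← hαe, ← Functor.map_comp, cokernel.condition, Functor.map_zero])
  have hSq : Sq.Exact := by
    have := (ShortComplex.exact_of_g_is_cokernel (ShortComplex.mk α₀ (cokernel.π α₀) (cokernel.condition _))
      (cokernelIsCokernel _)).map (BigSite.piEtPull Scheme.etalePrecoverage S)
    refine (ShortComplex.exact_iff_of_iso (S₁ := (ShortComplex.mk α₀ (cokernel.π α₀)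
      (cokernel.condition _)).map (BigSite.piEtPull Scheme.etalePrecoverage S)) (S₂ := Sq)
      (ShortComplex.isoMk (Iso.refl _) (Iso.refl _) (Iso.refl _) ?_ ?_)).1 this
    · simp [Sq, hαe]
    · simp [Sq, q]
  haveI : Epi Sq.g := inferInstanceAs (Epi ((BigSite.piEtPull Scheme.etalePrecoverage S).map (cokernel.π α₀)))
  haveI : Mono Sq.f := by
    haveI : ∀ U, Mono (α.hom.app U) := fun U => (AddCommGrpCat.mono_iff_injective _).2 (hαinj U.unop)
    haveI : Mono α.hom := NatTrans.mono_of_mono_app _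
    exact (sheafToPresheaf _ _).mono_of_mono_map (inferInstanceAs (Mono α.hom))
  have hex : ∀ (U : Over S) (y : (piSheaf F₁).obj.obj (op U)), q.hom.app (op U) y = 0 →
      ∃ x, α.hom.app (op U) x = y := by
    intro U y hy
    have h2 := hSq.map_of_mono_of_preservesKernel
      (sheafToPresheaf (Je S) AddCommGrpCat.{u + 1} ⋙ (evaluation _ _).obj (op U)) inferInstance inferInstance
    exact (ShortComplex.ab_exact_iff _).1 h2 y hy
  let k : Sq.X₂ ⟶ toEtale (CK h D 0) := ⟨Eι ≫ (piC h D 0).hom⟩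
  have hk : Sq.f ≫ k = 0 := by
    ext U y
    refine (congrArg (appS (piC h D 0) U.unop) (hα U.unop y)).trans ?_
    exact piC_etaF h D 0 U.unop _
  let ιS := hSq.desc k hk
  have hι : ∀ (U : Over S) (y : (piSheaf F₁).obj.obj (op U)),
      ιS.hom.app (op U) (q.hom.app (op U) y) = appS (piC h D 0) U (Eι.app (op U) y) := fun U y =>
    DFunLike.congr_fun (congrArg (fun t => (t.hom.app (op U)).hom) (hSq.g_desc k hk)) y
  haveI : Sheaf.IsLocallySurjective q := (Sheaf.isLocallySurjective_iff_epi' AddCommGrpCat.{u + 1} q).2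
    (inferInstanceAs (Epi Sq.g))
  have hloc : ∀ (U : Over S) (y : (piSheaf Q₀).obj.obj (op U)) (x : U.left),
      ∃ (W : Over S) (e : W ⟶ U), Etale e.left ∧ (∃ w, e.left w = x) ∧
        ∃ g, q.hom.app (op W) g = (piSheaf Q₀).obj.map e.op y := fun U y x =>
    exists_etale_of_mem (Presheaf.imageSieve_mem (Je S) q.hom (U := op U) y) x
  refine ⟨Q₀, ιS.hom, fun U a b hab => ?_, ?_, fun U y x => ?_, fun U g hg => ?_⟩
  · refine sub_eq_zero.1 (eq_zero_of_zeroAt (G := piSheaf Q₀) fun x => ?_)
    obtain ⟨W, e, he, hw, g, hg⟩ := hloc U (a - b) x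
    refine ⟨W, e, he, hw, ?_⟩
    have h0 : appS (piC h D 0) W (Eι.app (op W) g) = 0 := by
      rw [← hι, hg]
      refine (NatTrans.naturality_apply ιS.hom e.op _).trans ?_
      rw [map_sub]
      refine (congrArg _ (sub_eq_zero.2 hab)).trans ?_
      exact map_zero _
    obtain ⟨k', hk'⟩ := piC_ker h D 0 W _ h0
    have hdk : appS (D.d 0) W k' = 0 := etaF_injective h (D.K 1) W (by
      rw [← etaF_naturality, hk', map_zero]
      exact (hEker W _).2 ⟨g, rfl⟩)
    obtain ⟨f, rfl⟩ := (D.ι_ker W k').1 hdk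
    rw [← hα] at hk'
    rw [← hg, ← hEinj W hk']
    exact DFunLike.congr_fun (congrArg (fun t => (t.hom.app (op W)).hom) Sq.zero) f
  · rintro U _ ⟨y, rfl⟩
    refine eq_zero_of_zeroAt (G := toEtale (CK h D 1)) fun x => ?_
    obtain ⟨W, e, he, hw, g, hg⟩ := hloc U y x
    refine ⟨W, e, he, hw, ?_⟩
    refine (NatTrans.naturality_apply (dC h D 0).hom e.op _).symm.trans ?_
    show appS (dC h D 0) W ((CK h D 0).obj.map e.op (ιS.hom.app (op U) y)) = 0
    rw [show (CK h D 0).obj.map e.op (ιS.hom.app (op U) y) = ιS.hom.app (op W) ((piSheaf Q₀).obj.map e.op y) from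
      (NatTrans.naturality_apply ιS.hom e.op y).symm, ← hg, hι, piC_dC_apply, (hEker W _).2 ⟨g, rfl⟩, map_zero]
  · obtain ⟨W, e, he, hw, g, hg⟩ := hloc U y x
    refine ⟨W, e, he, hw, Eι.app (op W) g, (hEker W _).2 ⟨g, rfl⟩, ?_⟩
    rw [← hι, hg]
    exact NatTrans.naturality_apply ιS.hom e.op y
  · obtain ⟨y, rfl⟩ := (hEker U g).1 hg
    exact ⟨_, hι U y⟩

end Groth.Agent.QfsCmp
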