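import Groth.Agent.QfsCmp.Coker

/-!
# Cocycles on the qfs site are etale locally coboundaries
-/

set_option autoImplicit false
set_option backward.isDefEq.respectTransparency false
set_option backward.isDefEq.respectTransparency.types false
set_option maxHeartbeats 1600000
universe u

namespace Groth.Agent.QfsCmp

open CategoryTheory Limits AlgebraicGeometry Opposite Groth.Agent.BigSiteLib

variable {S T : Scheme.{u}}

theorem ResData.ExactUpTo.mono {D : ResData S} {q q' : ℕ} (h : D.ExactUpTo q) (hq : q' ≤ q) : D.ExactUpTo q' :=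
  fun m hm => h m (hm.trans hq)

theorem imageSieve_naturality {P Q : (Over S)ᵒᵖ ⥤ AddCommGrpCat.{u + 1}} (φ : P ⟶ Q) {X W : Over S} (f : W ⟶ X)
    (t : P.obj (op X)) : φ.app (op W) (P.map f.op t) = Q.map f.op (φ.app (op X) t) :=
  NatTrans.naturality_apply φ f.op t

/-- Etale coverings push forward along composition. -/
theorem je_pushforward (g : T ⟶ S) {U : Over T} {R' : Sieve U} (h : R' ∈ Je T U) (R : Sieve ((Over.map g).obj U))
    (hR : ∀ (W : Over T) (f : W ⟶ U), R'.arrows f → R.arrows ((Over.map g).map f)) :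
    R ∈ Je S ((Over.map g).obj U) :=
  etale_sieve_mem R fun x => by
    obtain ⟨W, e, he, hw, hR'⟩ := exists_etale_of_mem h x
    exact ⟨(Over.map g).obj W, (Over.map g).map e, he, hw, hR W e hR'⟩

section Killed

variable {V : Scheme.{u}} (h : V ⟶ S) [IsFinite h] [Surjective h]
  (D : ResData S)

/-- Cocycles of the direct image are etale locally coboundaries. -/
theorem EF_boundary {m : ℕ} (hV : Vanish.{u} m) (hD : D.ExactUpTo m) (j : ℕ) (hj : j + 1 ≤ m) (W : Over S)
    (e : ((EF h).obj (D.K (j + 1))).obj.obj (op W)) (he : appS ((EF h).map (D.d (j + 1))) W e = 0) :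
    Presheaf.imageSieve ((EF h).map (D.d j)).hom (U := W) e ∈ Je S W := by
  have h1 := hV V (D.restrict h) (ResData.exactUpTo_restrict hD h) j hj ((Over.pullback h).obj W) e he
  have h2 : Presheaf.imageSieve (D.d j).hom (U := (Over.map h).obj ((Over.pullback h).obj W)) e ∈
      Je S ((Over.map h).obj ((Over.pullback h).obj W)) :=
    je_pushforward h h1 _ fun _ _ hf => hf
  haveI : IsFinite (cov h W).left := MorphismProperty.pullback_fst W.hom h inferInstance
  refine etale_sieve_mem _ fun x => ?_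
  obtain ⟨W₁, e₁, he₁, hp, t, ht⟩ := exists_finite_refine (D.d j) (cov h W) e h2 x
  let P₁ := (Over.map h).map ((Over.pullback h).map e₁)
  have hw : P₁ ≫ cov h W = cov h W₁ ≫ e₁ := (Over.mapPullbackAdj h).counit.naturality e₁
  let mm := pbLift (cov h W) e₁ P₁ (cov h W₁) hw
  refine ⟨W₁, e₁, he₁, hp, ((D.K j).obj.map mm.op t : ((EF h).obj (D.K j)).obj.obj (op W₁)), ?_⟩
  show (D.d j).hom.app _ ((D.K j).obj.map mm.op t) = (D.K (j + 1)).obj.map P₁.op e
  rw [imageSieve_naturality, ht, map_map_apply, pbLift_fst]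

/-- The quotient complex as a resolution. -/
theorem exists_quotient_data (hD₁ : D.ExactUpTo 1) :
    ∃ (Q₀ : EtCoh.Ab S) (ιC : (piSheaf Q₀).obj ⟶ (CK h D 0).obj),
      (∀ U : Over S, Function.Injective (ιC.app (op U))) ∧
      (∀ (U : Over S) (x : (CK h D 0).obj.obj (op U)), appS (dC h D 0) U x = 0 ↔ ∃ y, ιC.app (op U) y = x) ∧
      (∀ (U : Over S) (y : (piSheaf Q₀).obj.obj (op U)), ∀ x : U.left, ∃ (W : Over S) (e : W ⟶ U),
        Etale e.left ∧ (∃ w, e.left w = x) ∧ ∃ g : ((EF h).obj (D.K 0)).obj.obj (op W),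
          appS ((EF h).map (D.d 0)) W g = 0 ∧
            appS (piC h D 0) W g = (CK h D 0).obj.map e.op (ιC.app (op U) y)) := by
  obtain ⟨Q₀, ιC, hinj, hle, hlift', hge⟩ := exists_aug h D
  refine ⟨Q₀, ιC, hinj, fun U c => ⟨fun hc => ?_, hle U c⟩, hlift'⟩
  obtain ⟨e, rfl⟩ := piC_surjective h D 0 U c
  obtain ⟨k, hk⟩ := piC_ker h D 1 U _ ((piC_dC_apply h D 0 U e).symm.trans hc)
  have hdk : appS (D.d 1) U k = 0 := etaF_injective h (D.K 2) U (by
    rw [← etaF_naturality, hk, map_zero]
    exact DFunLike.congr_fun (congrArg (fun t => (t.hom.app (op U)).hom)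
      (((EF h).map_comp (D.d 0) (D.d 1)).symm.trans ((congrArg _ (D.d_d 0)).trans (Functor.map_zero _ _ _)))) e)
  let R := Presheaf.imageSieve (D.d 0).hom (U := U) k
  have hR : R ∈ Jf S U := hD₁ 0 le_rfl U k hdk
  have hlift : ∀ {W : Over S} (f : W ⟶ U), R.arrows f →
      ∃ y, ιC.app (op W) y = (CK h D 0).obj.map f.op (appS (piC h D 0) U e) := by
    rintro W f ⟨t, ht⟩
    let e' := ((EF h).obj (D.K 0)).obj.map f.op e - appS (etaF h (D.K 0)) W t
    have he' : appS ((EF h).map (D.d 0)) W e' = 0 := by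
      rw [map_sub, etaF_naturality, sub_eq_zero]
      refine (imageSieve_naturality ((EF h).map (D.d 0)).hom f e).trans ?_
      show ((EF h).obj (D.K 1)).obj.map f.op (appS ((EF h).map (D.d 0)) U e) = _
      rw [← hk]
      refine (imageSieve_naturality (etaF h (D.K 1)).hom f k).symm.trans ?_
      exact congrArg _ ht.symm
    obtain ⟨y, hy⟩ := hge W e' he'
    refine ⟨y, hy.trans ?_⟩
    rw [map_sub, piC_etaF, sub_zero]
    exact imageSieve_naturality (piC h D 0).hom f e
  choose y hy using @hlift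
  let G := piQfs Q₀
  let fam : Presieve.FamilyOfElements (G.obj ⋙ forget AddCommGrpCat.{u + 1}) R.arrows := fun W f hf => y f hf
  have hfam : fam.Compatible := by
    intro W₁ W₂ Z g₁ g₂ f₁ f₂ hf₁ hf₂ eq
    apply hinj Z
    refine (imageSieve_naturality ιC g₁ _).trans (Eq.trans ?_ (imageSieve_naturality ιC g₂ _).symm)
    rw [hy, hy, map_map_apply, map_map_apply, eq]
  obtain ⟨Y, hY, -⟩ := (types_isSheaf G) R hR fam hfam
  refine ⟨Y, ((types_isSheaf (CK h D 0)) R hR).isSeparatedFor.ext fun {W} f hf => ?_⟩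
  refine Eq.trans ?_ (hy f hf)
  refine (imageSieve_naturality ιC f Y).symm.trans ?_
  exact congrArg _ (hY f hf)

theorem killed {m : ℕ} (hV : Vanish.{u} m) (hD : D.ExactUpTo (m + 1))
    (c : (D.K (m + 1)).obj.obj (op (Over.mk (𝟙 S)))) (hc : appS (D.d (m + 1)) _ c = 0)
    (b : (D.K m).obj.obj (op (Over.mk h)))
    (hb : appS (D.d m) _ b =
      (D.K (m + 1)).obj.map (Over.homMk h (Category.comp_id h) : Over.mk h ⟶ Over.mk (𝟙 S)).op c) :
    Presheaf.imageSieve (D.d m).hom (U := Over.mk (𝟙 S)) c ∈ Je S (Over.mk (𝟙 S)) := by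
  let top : Over S := Over.mk (𝟙 S)
  let p : (Over.map h).obj ((Over.pullback h).obj top) ⟶ Over.mk h :=
    Over.homMk (pullback.snd (𝟙 S) h) rfl
  let b₁ : ((EF h).obj (D.K m)).obj.obj (op top) := (D.K m).obj.map p.op b
  have hb₁ : appS ((EF h).map (D.d m)) top b₁ = appS (etaF h (D.K (m + 1))) top c := by
    show (D.d m).hom.app _ ((D.K m).obj.map p.op b) = _
    rw [imageSieve_naturality, etaF_app]
    show (D.K (m + 1)).obj.map p.op (appS (D.d m) _ b) = _
    rw [hb, map_map_apply, show p ≫ (Over.homMk h (Category.comp_id h) : Over.mk h ⟶ Over.mk (𝟙 S)) = cov h top from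
      Over.mkIdTerminal.hom_ext _ _]
  have fin : ∀ {W : Over S} (f : W ⟶ top) (k : (D.K m).obj.obj (op W)) (z : ((EF h).obj (D.K m)).obj.obj (op W)),
      appS ((EF h).map (D.d m)) W z = 0 →
      appS (etaF h (D.K m)) W k = ((EF h).obj (D.K m)).obj.map f.op b₁ - z →
      (Presheaf.imageSieve (D.d m).hom (U := top) c).arrows f := by
    intro W f k z hz hk
    refine ⟨k, etaF_injective h (D.K (m + 1)) W ?_⟩
    refine ((etaF_naturality h D m W k).symm.trans ?_).trans (imageSieve_naturality (etaF h (D.K (m + 1))).hom f c).symm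
    rw [hk, map_sub, hz, sub_zero]
    refine (imageSieve_naturality ((EF h).map (D.d m)).hom f b₁).trans ?_
    exact congrArg _ hb₁
  have hcb : appS (dC h D m) top (appS (piC h D m) top b₁) = 0 := by
    rw [piC_dC_apply, hb₁, piC_etaF]
  rcases m with _ | m
  · obtain ⟨Q', ι', ιinj', ιker', hlift⟩ := exists_quotient_data h D hD
    obtain ⟨y, hy⟩ := (ιker' top _).1 hcb
    refine etale_sieve_mem _ fun x => ?_
    obtain ⟨W, e, he, hw, z, hz, hπ⟩ := hlift top y x
    rw [hy] at hπ
    obtain ⟨k, hk⟩ := piC_ker h D 0 W (((EF h).obj (D.K 0)).obj.map e.op b₁ - z) (by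
      rw [map_sub, hπ, sub_eq_zero]
      exact imageSieve_naturality (piC h D 0).hom e b₁)
    exact ⟨W, e, he, hw, fin e k z hz hk⟩
  · obtain ⟨Q', ι', ιinj', ιker', -⟩ := exists_quotient_data h D (hD.mono (by omega))
    have dd' := dC_dC h D
    have inj' := injective_CK h D
    have hex : ResData.ExactUpTo ⟨Q', fun n => CK h D n, dC h D, dd', inj', ι', ιinj', ιker'⟩ (m + 1) := by
      intro j hj U c' hc'
      obtain ⟨e, rfl⟩ := piC_surjective h D (j + 1) U c'
      obtain ⟨k, hk⟩ := piC_ker h D (j + 2) U _ ((piC_dC_apply h D (j + 1) U e).symm.trans hc')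
      have hdk : appS (D.d (j + 2)) U k = 0 := etaF_injective h (D.K (j + 2 + 1)) U (by
        rw [← etaF_naturality, hk, map_zero]
        exact DFunLike.congr_fun (congrArg (fun t => (t.hom.app (op U)).hom)
          (((EF h).map_comp (D.d (j + 1)) (D.d (j + 2))).symm.trans
            ((congrArg _ (D.d_d (j + 1))).trans (Functor.map_zero _ _ _)))) e)
      refine (Jf S).transitive (hD (j + 1) (by omega) U k hdk) _ ?_
      rintro W f ⟨t, ht⟩
      let e' := ((EF h).obj (D.K (j + 1))).obj.map f.op e - appS (etaF h (D.K (j + 1))) W t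
      have he' : appS ((EF h).map (D.d (j + 1))) W e' = 0 := by
        rw [map_sub, etaF_naturality, sub_eq_zero]
        refine (imageSieve_naturality ((EF h).map (D.d (j + 1))).hom f e).trans ?_
        show ((EF h).obj (D.K (j + 1 + 1))).obj.map f.op (appS ((EF h).map (D.d (j + 1))) U e) = _
        rw [← hk]
        refine (imageSieve_naturality (etaF h (D.K (j + 1 + 1))).hom f k).symm.trans ?_
        exact congrArg _ ht.symm
      refine je_le_jf S W ((Je S).superset_covering ?_ (EF_boundary h D hV (hD.mono (Nat.le_succ _)) j hj W e' he'))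
      rintro Z g ⟨z, hz⟩
      refine ⟨appS (piC h D j) Z z, ?_⟩
      refine (piC_dC_apply h D j Z z).trans ((congrArg (appS (piC h D (j + 1)) Z) hz).trans ?_)
      refine (imageSieve_naturality (piC h D (j + 1)).hom g e').trans ?_
      rw [show (piC h D (j + 1)).hom.app (op W) e' =
        (CK h D (j + 1)).obj.map f.op (appS (piC h D (j + 1)) U e) by
          refine (map_sub _ _ _).trans ?_
          refine (congrArg₂ (· - ·) (imageSieve_naturality (piC h D (j + 1)).hom f e) (piC_etaF h D (j + 1) W t)).trans ?_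
          exact sub_zero _, map_map_apply]
    refine (Je S).superset_covering ?_
      (hV S ⟨Q', fun n => CK h D n, dC h D, dd', inj', ι', ιinj', ιker'⟩ hex m le_rfl top _ hcb)
    rintro W f ⟨u', hu'⟩
    obtain ⟨z, rfl⟩ := piC_surjective h D m W u'
    obtain ⟨k, hk⟩ := piC_ker h D (m + 1) W
      (((EF h).obj (D.K (m + 1))).obj.map f.op b₁ - appS ((EF h).map (D.d m)) W z) (by
        rw [map_sub, ← piC_dC_apply, sub_eq_zero]
        exact (imageSieve_naturality (piC h D (m + 1)).hom f b₁).trans hu'.symm)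
    refine fin f k _ ?_ hk
    exact DFunLike.congr_fun (congrArg (fun t => (t.hom.app (op W)).hom)
      (((EF h).map_comp (D.d m) (D.d (m + 1))).symm.trans ((congrArg _ (D.d_d m)).trans (Functor.map_zero _ _ _)))) z
end Killed

end Groth.Agent.QfsCmp
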