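import Groth.Agent.BigSiteLib.EtHPull
import Groth.Agent.HTopPh.Basic
import Groth.Agent.S6630
import Groth.Agent.ASp.FiniteCoprod
import Groth.Agent.UnivOpenSectLib.Scheme

/-!
# The topology generated by etale coverings and finite surjective morphisms

Every covering sieve of this topology is, etale locally on the base, refined by a finite surjective
morphism followed by an etale covering. Universally open surjective morphisms locally of finite
presentation are coverings.
-/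

set_option autoImplicit false
set_option backward.isDefEq.respectTransparency false
set_option backward.isDefEq.respectTransparency.types false
set_option maxHeartbeats 800000
universe u

namespace Groth.Agent.QfsCmp

open CategoryTheory Limits AlgebraicGeometry Opposite Groth.Agent.BigSiteLib

/-- A sieve refined etale locally by a finite surjective morphism followed by an etale covering. -/
def Refinable {X : Scheme.{u}} (R : Sieve X) : Prop :=
  ∀ x : X, ∃ (V W : Scheme.{u}) (v : V ⟶ X) (π : W ⟶ V), Etale v ∧ x ∈ Set.range v ∧ IsFinite π ∧ Surjective π ∧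
    ∀ w : W, ∃ (W' : Scheme.{u}) (e : W' ⟶ W), Etale e ∧ w ∈ Set.range e ∧ R (e ≫ π ≫ v)

theorem refinable_top (X : Scheme.{u}) : Refinable (⊤ : Sieve X) := fun x =>
  ⟨X, X, 𝟙 X, 𝟙 X, inferInstance, ⟨x, rfl⟩, inferInstance, inferInstance, fun w =>
    ⟨X, 𝟙 X, inferInstance, ⟨w, rfl⟩, trivial⟩⟩

theorem refinable_pullback {X Y : Scheme.{u}} (f : Y ⟶ X) {R : Sieve X} (h : Refinable R) :
    Refinable (R.pullback f) := by
  intro y
  obtain ⟨V, W, v, π, hv, ⟨p, hp⟩, hπ, hπs, hloc⟩ := h (f y)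
  haveI := hv
  obtain ⟨t, -, ht⟩ := Scheme.Pullback.exists_preimage_pullback p y hp
  let g := pullback.fst v f
  haveI : IsFinite (pullback.snd π g) := MorphismProperty.pullback_snd π g hπ
  haveI : Surjective (pullback.snd π g) := MorphismProperty.pullback_snd π g hπs
  refine ⟨pullback v f, pullback π g, pullback.snd v f, pullback.snd π g, inferInstance, ⟨t, ht⟩,
    inferInstance, inferInstance, fun w => ?_⟩
  obtain ⟨W', e, he, ⟨a, ha⟩, hR⟩ := hloc (pullback.fst π g w)
  haveI := he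
  obtain ⟨b, -, hb⟩ := Scheme.Pullback.exists_preimage_pullback a w ha
  refine ⟨pullback e (pullback.fst π g), pullback.snd e (pullback.fst π g), inferInstance, ⟨b, hb⟩, ?_⟩
  show R ((pullback.snd e (pullback.fst π g) ≫ pullback.snd π g ≫ pullback.snd v f) ≫ f)
  have hc : (pullback.snd e (pullback.fst π g) ≫ pullback.snd π g ≫ pullback.snd v f) ≫ f =
      pullback.fst e (pullback.fst π g) ≫ e ≫ π ≫ v := by
    simp only [Category.assoc]
    rw [← pullback.condition, ← pullback.condition_assoc, ← pullback.condition_assoc]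
  rw [hc]
  exact R.downward_closed hR _

theorem refinable_transitive {X : Scheme.{u}} {R : Sieve X} (hR : Refinable R) {S : Sieve X}
    (hS : ∀ ⦃Y : Scheme.{u}⦄ ⦃g : Y ⟶ X⦄, R g → Refinable (S.pullback g)) : Refinable S := by
  classical
  intro x
  obtain ⟨V, W, v, π, hv, ⟨p, hp⟩, hπ, hπs, hloc⟩ := hR x
  haveI := hv
  -- on the finite scheme, etale locally, a second finite surjective morphism
  have h2 : ∀ w : W, ∃ (V₁ W₁ : Scheme.{u}) (v₁ : V₁ ⟶ W) (π₁ : W₁ ⟶ V₁), Etale v₁ ∧ w ∈ Set.range v₁ ∧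
      IsFinite π₁ ∧ Surjective π₁ ∧ ∀ z : W₁, ∃ (W' : Scheme.{u}) (e : W' ⟶ W₁),
        Etale e ∧ z ∈ Set.range e ∧ S (e ≫ π₁ ≫ v₁ ≫ π ≫ v) := by
    intro w
    obtain ⟨W', e, he, ⟨a, ha⟩, heR⟩ := hloc w
    haveI := he
    obtain ⟨V₁, W₁, v₁, π₁, hv₁, ⟨q, hq⟩, hπ₁, hπ₁s, hloc₁⟩ := hS heR a
    haveI := hv₁
    refine ⟨V₁, W₁, v₁ ≫ e, π₁, inferInstance, ⟨q, by rw [Scheme.Hom.comp_apply, hq, ha]⟩, hπ₁, hπ₁s,
      fun z => ?_⟩
    obtain ⟨W'', e', he', hz, hS'⟩ := hloc₁ z
    refine ⟨W'', e', he', hz, ?_⟩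
    have hS'' : S ((e' ≫ π₁ ≫ v₁) ≫ e ≫ π ≫ v) := hS'
    simpa only [Category.assoc] using hS''
  choose V₁ W₁ v₁ π₁ hv₁ hw₁ hπ₁ hπ₁s hloc₁ using h2
  let pr := pullback.fst π (𝟙 V)
  haveI : IsIso pr := inferInstance
  obtain ⟨κ, V', v', hv', hcov, hdec⟩ := S6630.result π V (𝟙 V) W V₁ (fun w => v₁ w ≫ inv pr)
    (fun w => haveI := hv₁ w; inferInstance)
    (fun q => by
      obtain ⟨a, ha⟩ := hw₁ (pr q)
      exact ⟨pr q, a, by rw [Scheme.Hom.comp_apply, ha, ← Scheme.Hom.comp_apply, IsIso.hom_inv_id]; rfl⟩)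
  obtain ⟨j, q, hq⟩ := hcov p
  haveI := hv' j
  obtain ⟨μ, D, hdisj, htop, hfac⟩ := hdec j
  choose iw k hk using hfac
  obtain ⟨O, hO, hqO, -⟩ := exists_isAffineOpen_mem_and_subset (X := V' j) (x := q) (U := ⊤) trivial
  haveI : IsAffine O.toScheme := hO
  let hh := v' j ≫ 𝟙 V
  let hO' := O.ι ≫ hh
  let πO := pullback.snd π hO'
  haveI : IsFinite πO := MorphismProperty.pullback_snd _ _ hπ
  haveI : Surjective πO := MorphismProperty.pullback_snd _ _ hπs
  haveI : IsAffine (pullback π hO') := isAffine_of_isAffineHom πO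
  let c : pullback π hO' ⟶ pullback π hh :=
    pullback.map π hO' π hh (𝟙 W) O.ι (𝟙 V) (by simp) (by simp [hO'])
  let E : μ → (pullback π hO').Opens := fun a => c ⁻¹ᵁ D a
  obtain ⟨t, ht⟩ := (isCompact_univ : IsCompact (Set.univ : Set ↥(pullback π hO'))).elim_finite_subcover
    (fun a => (E a : Set ↥(pullback π hO'))) (fun a => (E a).isOpen) (fun z _ => by
      obtain ⟨a, ha⟩ := TopologicalSpace.Opens.mem_iSup.1 (htop.ge (trivial : c z ∈ (⊤ : (pullback π hh).Opens)))
      exact Set.mem_iUnion.2 ⟨a, ha⟩)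
  haveI hcl : ∀ a : t, IsFinite (E a.1).ι := fun a => by
    haveI : IsClosedImmersion (E a.1).ι := by
      refine IsClosedImmersion.of_isPreimmersion _ ?_
      rw [Scheme.Opens.range_ι, ← isOpen_compl_iff]
      have hc : ((E a.1 : (pullback π hO').Opens) : Set ↥(pullback π hO'))ᶜ =
          ⋃ b ∈ {b | b ≠ a.1}, (E b : Set ↥(pullback π hO')) := by
        ext z
        simp only [Set.mem_compl_iff, SetLike.mem_coe, Set.mem_iUnion, Set.mem_setOf_eq, exists_prop]
        constructor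
        · intro hz
          obtain ⟨b, hb⟩ := TopologicalSpace.Opens.mem_iSup.1
            (htop.ge (trivial : c z ∈ (⊤ : (pullback π hh).Opens)))
          exact ⟨b, fun e => hz (e ▸ hb), hb⟩
        · rintro ⟨b, hb, hzb⟩ hza
          exact (hdisj b a.1 hb).le_bot (show c z ∈ D b ⊓ D a.1 from ⟨hzb, hza⟩)
      rw [hc]
      exact isOpen_biUnion fun b _ => (E b).isOpen
    infer_instance
  let K : ∀ a : t, (E a.1).toScheme ⟶ V₁ (iw a.1) := fun a => (c ∣_ D a.1) ≫ k a.1
  have hK : ∀ a : t, K a ≫ v₁ (iw a.1) = (E a.1).ι ≫ pullback.fst π hO' := fun a => by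
    have h1 := congrArg (fun f => f ≫ pr) (hk a.1)
    simp only [Category.assoc, IsIso.inv_hom_id, Category.comp_id] at h1
    have h2 : k a.1 ≫ v₁ (iw a.1) = (D a.1).ι ≫ pullback.fst π hh := by
      refine h1.trans ?_
      simp [pr, pullback.map, hh]
    rw [Category.assoc, h2, morphismRestrict_ι_assoc]
    exact congrArg (fun f => (E a.1).ι ≫ f) ((pullback.lift_fst _ _ _).trans (Category.comp_id _))
  let e' := t.equivFin
  let P : Fin t.card → Scheme.{u} := fun l => pullback (π₁ (iw (e'.symm l).1)) (K (e'.symm l))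
  let ρ : ∀ l, P l ⟶ pullback π hO' := fun l => pullback.snd _ _ ≫ (E (e'.symm l).1).ι
  haveI hρ : IsFinite (Limits.Sigma.desc ρ) := ASp.isFinite_sigmaDesc_fin P ρ fun l => by
    haveI : IsFinite (pullback.snd (π₁ (iw (e'.symm l).1)) (K (e'.symm l))) :=
      MorphismProperty.pullback_snd _ _ (hπ₁ _)
    infer_instance
  haveI : Surjective (Limits.Sigma.desc ρ) := by
    refine Surjective.sigmaDesc_of_union_range_eq_univ (f := ρ) (Set.eq_univ_iff_forall.2 fun z => ?_)
    obtain ⟨a, ha, hza⟩ := Set.mem_iUnion₂.1 (ht (Set.mem_univ z))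
    obtain ⟨l, hl⟩ := e'.symm.surjective ⟨a, ha⟩
    refine Set.mem_iUnion.2 ⟨l, ?_⟩
    haveI : Surjective (pullback.snd (π₁ (iw (e'.symm l).1)) (K (e'.symm l))) :=
      MorphismProperty.pullback_snd _ _ (hπ₁s _)
    obtain ⟨s, hs⟩ := (pullback.snd (π₁ (iw (e'.symm l).1)) (K (e'.symm l))).surjective
      (⟨z, by rw [hl]; exact hza⟩ : (E (e'.symm l).1).toScheme)
    exact ⟨s, by rw [Scheme.Hom.comp_apply, hs]; rfl⟩
  refine ⟨O.toScheme, ∐ P, O.ι ≫ hh ≫ v, Limits.Sigma.desc ρ ≫ πO, inferInstance, ⟨⟨q, hqO⟩, ?_⟩,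
    inferInstance, inferInstance, fun z => ?_⟩
  · show v (𝟙 V (v' j q)) = x
    rw [hq]
    exact hp
  obtain ⟨l, z₀, rfl⟩ := (sigmaOpenCover P).exists_eq z
  let z' : ↥(pullback (π₁ (iw (e'.symm l).1)) (K (e'.symm l))) := z₀
  obtain ⟨W', e, he, ⟨a, ha⟩, hS'⟩ :=
    hloc₁ (iw (e'.symm l).1) (pullback.fst (π₁ (iw (e'.symm l).1)) (K (e'.symm l)) z')
  haveI := he
  let φ := pullback.fst (π₁ (iw (e'.symm l).1)) (K (e'.symm l))
  obtain ⟨b, -, hb⟩ := Scheme.Pullback.exists_preimage_pullback a z' ha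
  haveI : IsOpenImmersion (Limits.Sigma.ι P l) := inferInstance
  refine ⟨pullback e φ, pullback.snd e φ ≫ Limits.Sigma.ι P l, inferInstance,
    ⟨b, by rw [Scheme.Hom.comp_apply, hb]; rfl⟩, ?_⟩
  have hc : (pullback.snd e φ ≫ Limits.Sigma.ι P l) ≫ (Limits.Sigma.desc ρ ≫ πO) ≫ O.ι ≫ hh ≫ v =
      pullback.fst e φ ≫ e ≫ π₁ _ ≫ v₁ _ ≫ π ≫ v := by
    simp only [Category.assoc, Limits.Sigma.ι_desc_assoc, ρ]
    rw [show πO ≫ O.ι ≫ hh ≫ v = pullback.fst π hO' ≫ π ≫ v by
      rw [pullback.condition_assoc]; simp [hO', πO]]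
    rw [← reassoc_of% (hK (e'.symm l)), ← pullback.condition_assoc, ← pullback.condition_assoc]
  rw [hc]
  exact S.downward_closed hS' _

/-- The topology of refinable sieves. -/
def refTop : GrothendieckTopology Scheme.{u} where
  sieves X := {R | Refinable R}
  top_mem' := refinable_top
  pullback_stable' _ _ _ f h := refinable_pullback f h
  transitive' _ _ hR _ hS := refinable_transitive hR hS

/-- Etale coverings and finite surjective morphisms. -/
def qfsPre : Precoverage Scheme.{u} where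
  coverings X := Scheme.etalePrecoverage X ∪
    {R | ∃ (Y : Scheme.{u}) (π : Y ⟶ X), IsFinite π ∧ Surjective π ∧ R = Presieve.singleton π}

theorem etale_le_qfsPre : Scheme.etalePrecoverage.{u} ≤ qfsPre.{u} := fun _ _ h => Or.inl h

instance aEtCont_qfs (S : Scheme.{u}) : BigSite.AEtCont qfsPre.{u} S := BigSite.aEtCont_of_le etale_le_qfsPre S

theorem qfs_le_refTop : qfsPre.{u}.toGrothendieck ≤ refTop.{u} := by
  rw [Precoverage.toGrothendieck_le_iff_le_toPrecoverage]
  intro X R hR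
  rw [GrothendieckTopology.mem_toPrecoverage_iff]
  show Refinable (Sieve.generate R)
  intro x
  rcases hR with hR | ⟨Y, π, hπ, hπs, rfl⟩
  · obtain ⟨E, rfl⟩ := Precoverage.mem_iff_exists_zeroHypercover.1 hR
    obtain ⟨i, y, hy⟩ : ∃ i, x ∈ Set.range (E.f i) :=
      ((Scheme.ofArrows_mem_precoverage_iff (P := @Etale)).1 E.mem₀).1 x
    haveI : Etale (E.f i) := E.mem₀.2 ⟨i⟩
    refine ⟨E.X i, E.X i, E.f i, 𝟙 _, inferInstance, ⟨y, hy⟩, inferInstance, inferInstance, fun w => ?_⟩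
    exact ⟨E.X i, 𝟙 _, inferInstance, ⟨w, rfl⟩, Sieve.le_generate _ _ _ (by
      rw [Category.id_comp, Category.id_comp]; exact ⟨i⟩)⟩
  · exact ⟨X, Y, 𝟙 X, π, inferInstance, ⟨x, rfl⟩, hπ, hπs, fun w =>
      ⟨Y, 𝟙 Y, inferInstance, ⟨w, rfl⟩, Sieve.le_generate _ _ _ (by
        rw [Category.comp_id, Category.id_comp]; exact ⟨⟩)⟩⟩

variable {S : Scheme.{u}}

/-- Covering sieves over the base are refinable. -/
theorem refinable_of_mem {U : Over S} {R : Sieve U} (h : R ∈ QuotSh.J qfsPre.{u} S U) :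
    Refinable (Sieve.overEquiv U R) :=
  qfs_le_refTop _ h

/-- A surjective universally open morphism locally of finite presentation is a covering. -/
theorem generate_singleton_mem {X Y : Scheme.{u}} (f : X ⟶ Y) [UniversallyOpen f]
    [LocallyOfFinitePresentation f] [Surjective f] :
    Sieve.generate (Presieve.singleton f) ∈ qfsPre.{u}.toGrothendieck Y := by
  have hopen : ∀ {Z : Scheme.{u}} {ι : Type u} (O : ι → Z.Opens), (∀ z : Z, ∃ i, z ∈ O i) →
      Presieve.ofArrows (fun i => (O i).toScheme) (fun i => (O i).ι) ∈ qfsPre Z := fun O h =>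
    Or.inl ((Scheme.ofArrows_mem_precoverage_iff (P := @Etale)).2 ⟨fun z => by
      obtain ⟨i, hi⟩ := h z
      exact ⟨i, ⟨z, hi⟩, rfl⟩, fun i => inferInstanceAs (Etale (O i).ι)⟩)
  refine qfsPre.toGrothendieck.transitive (Precoverage.generate_mem_toGrothendieck
    (hopen (fun U : Y.affineOpens => U.1) fun y => by
      obtain ⟨U, hU, hy, -⟩ := exists_isAffineOpen_mem_and_subset (X := Y) (x := y) (U := ⊤) trivial
      exact ⟨⟨U, hU⟩, hy⟩)) _ ?_
  rintro Z g ⟨_, a, b, ⟨U⟩, rfl⟩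
  rw [Sieve.pullback_comp]
  refine qfsPre.toGrothendieck.pullback_stable a ?_
  haveI : IsAffine U.1.toScheme := U.2
  haveI : UniversallyOpen (f ∣_ U.1) := IsZariskiLocalAtTarget.restrict ‹_› _
  haveI : LocallyOfFinitePresentation (f ∣_ U.1) := IsZariskiLocalAtTarget.restrict ‹_› _
  haveI : Surjective (f ∣_ U.1) := IsZariskiLocalAtTarget.restrict ‹_› _
  obtain ⟨P, π, hπ, hπs, hP⟩ := UnivOpenSectLib.exists_finite_splitting (f ∣_ U.1)
  choose O r hxO hr using hP
  refine qfsPre.toGrothendieck.transitive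
    (Precoverage.generate_mem_toGrothendieck (show Presieve.singleton π ∈ qfsPre U.1.toScheme from
      Or.inr ⟨P, π, hπ, hπs, rfl⟩)) _ ?_
  rintro Z g ⟨_, a, b, ⟨⟩, rfl⟩
  rw [Sieve.pullback_comp]
  refine qfsPre.toGrothendieck.pullback_stable a ?_
  refine qfsPre.toGrothendieck.transitive
    (Precoverage.generate_mem_toGrothendieck (hopen O fun z => ⟨z, hxO z⟩)) _ ?_
  rintro Z g ⟨_, a, b, ⟨z⟩, rfl⟩
  rw [Sieve.pullback_comp]
  refine qfsPre.toGrothendieck.pullback_stable a (GrothendieckTopology.superset_covering _ ?_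
    (qfsPre.toGrothendieck.top_mem _))
  intro Z g _
  show Sieve.generate (Presieve.singleton f) (((g ≫ (O z).ι) ≫ π) ≫ U.1.ι)
  refine ⟨X, g ≫ r z ≫ (f ⁻¹ᵁ U.1).ι, f, ⟨⟩, ?_⟩
  simp only [Category.assoc]
  rw [← morphismRestrict_ι, reassoc_of% (hr z)]

theorem isVCover_finite {X Y : Scheme.{u}} (π : Y ⟶ X) [IsFinite π] [Surjective π] :
    HTop.IsVCover (PreZeroHypercover.singleton.{0} π) := by
  haveI : Finite (PreZeroHypercover.singleton.{0} π).I₀ := inferInstanceAs (Finite PUnit)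
  exact HTopV.isVCover_of_hasValLift _ (fun _ => inferInstanceAs (QuasiCompact π))
    (HTopV.hasValLift_singleton_of_universallyClosed π)

/-- Sheaves from the small etale site are sheaves for the topology. -/
theorem isSheaf_piSheaf (F : EtCoh.Ab S) : Presheaf.IsSheaf (QuotSh.J qfsPre.{u} S) (piSheaf F).obj := by
  refine (Presheaf.isSheaf_iff_isSheaf_forget _ _ (forget AddCommGrpCat.{u + 1})).2 ?_
  rw [isSheaf_iff_isSheaf_of_type]
  refine HTopSheaf.isSheaf_over_toGrothendieck fun X R hR Y f Z k => ?_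
  rcases hR with hR | ⟨W, π, hπ, hπs, rfl⟩
  · obtain ⟨E, rfl, hV, -⟩ := isVCover_of_mem_etale hR
    refine isSheafFor_piSheaf_of_isVCover F _
      (HTopV.isVCover_pullback₁ (k.left ≫ f) hV) fun i => ?_
    show (Sieve.overEquiv Y).symm ((Sieve.generate E.presieve₀).pullback f) _
    refine (Sieve.overEquiv_symm_iff _ _).2 ⟨_, pullback.snd (k.left ≫ f) (E.f i), E.f i, ⟨i⟩, ?_⟩
    exact (pullback.condition).symm.trans (Category.assoc _ _ _).symm
  · refine isSheafFor_piSheaf_of_isVCover F _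
      (HTopV.isVCover_pullback₁ (k.left ≫ f) (isVCover_finite π)) fun i => ?_
    show (Sieve.overEquiv Y).symm ((Sieve.generate (Presieve.singleton π)).pullback f) _
    refine (Sieve.overEquiv_symm_iff _ _).2 ⟨_, pullback.snd (k.left ≫ f) π, π, ⟨⟩, ?_⟩
    exact (pullback.condition).symm.trans (Category.assoc _ _ _).symm

/-- `π⁻¹ F` as a sheaf for the topology. -/
noncomputable def piQfs (F : EtCoh.Ab S) : BigSite.Ab qfsPre.{u} S := ⟨(piSheaf F).obj, isSheaf_piSheaf F⟩

/-- `π⁻¹` to the topology. -/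
noncomputable def piQfsIso (F : EtCoh.Ab S) : (BigSite.piEtPull qfsPre.{u} S).obj F ≅ piQfs F :=
  finerPullIso (QuotSh.J qfsPre.{u} S) (BigSite.J_mono etale_le_qfsPre S) F (isSheaf_piSheaf F)

/-- A sheaf for the topology as a sheaf on the big etale site. -/
noncomputable def toEtale (H : BigSite.Ab qfsPre.{u} S) : BigSite.Ab Scheme.etalePrecoverage S :=
  ⟨H.obj, (Presheaf.isSheaf_iff_isSheaf_forget _ _ (forget AddCommGrpCat.{u + 1})).2
    ((isSheaf_iff_isSheaf_of_type _ _).2 (Presieve.isSheaf_of_le _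
      (BigSite.J_mono etale_le_qfsPre S)
      (types_isSheaf (J := QuotSh.J qfsPre.{u} S) H)))⟩

end Groth.Agent.QfsCmp
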